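import Cfsg.Agent.H726.Rel.Defs
import Cfsg.Agent.H270.Crit.LTwo
import Cfsg.Agent.H95.StemCover
import Cfsg.Agent.ClassificationK.WalterIso
import Cfsg.Agent.Walter.StepAll
import Cfsg.Agent.S0343
import Cfsg.Agent.S1149
import Cfsg.Agent.S0252
import Cfsg.Agent.S0253
import Cfsg.Agent.S0892
import Cfsg.Agent.S2039
import Cfsg.Agent.S2086
import Cfsg.Agent.S2113

/-!
# The row `two` of `Cfsg.Agent.H726.Rel.Rows` (helper647, for S4985, S4992)

Simple groups with abelian Sylow `2`-subgroups and a stem extension with a kernel of even order: the kernel is a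
`2`-group, and some class of odd prime power elements has more than `|S|_2 ^ 2` elements.
-/

set_option autoImplicit false

namespace Cfsg.Agent.H647.Rel

open Matrix Subgroup Cfsg Cfsg.Agent.H726.Rel Cfsg.Agent.H270.Crit.LTwo
open scoped commutatorElement

universe u v w

/-! ### Kernels -/

theorem card_ker_comp {S : Type*} {T : Type*} {C : Type*} [Group S] [Group T] [Group C] (e : S ≃* T)
    (σ : C →* S) : Nat.card (e.toMonoidHom.comp σ).ker = Nat.card σ.ker := by
  have h : (e.toMonoidHom.comp σ).ker = σ.ker := by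
    ext x
    rw [MonoidHom.mem_ker, MonoidHom.mem_ker]
    show e (σ x) = 1 ↔ σ x = 1
    exact e.map_eq_one_iff
  rw [h]

theorem ker_comp {S : Type*} {T : Type*} {C : Type*} [Group S] [Group T] [Group C] (e : S ≃* T)
    (σ : C →* S) : (e.toMonoidHom.comp σ).ker = σ.ker := by
  ext x
  rw [MonoidHom.mem_ker, MonoidHom.mem_ker]
  show e (σ x) = 1 ↔ σ x = 1
  exact e.map_eq_one_iff

theorem ker_dvd {S : Type u} {T : Type v} {C : Type w} [Group S] [Group T] [Group C] (e : S ≃* T)
    (hS : commutator S = ⊤) {n : ℕ} (hT : Cfsg.HasCyclicSchurMultiplier T n) (σ : C →* S)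
    (hσ : Cfsg.IsStemExtension σ) : Nat.card σ.ker ∣ n := by
  have h1 := H95.StemCover.perfect_of_stem hS hσ
  rw [← card_ker_comp e σ]
  refine H95.StemCover.card_ker_dvd_cyclic hT h1 _ ?_ ?_
  · exact e.surjective.comp hσ.1
  · rw [ker_comp e σ]
    exact hσ.2.1

theorem card_ker_alt5 {S : Type u} {C : Type w} [Group S] [Group C] [Finite C]
    (e : S ≃* alternatingGroup (Fin 5)) (σ : C →* S) (hσ : Cfsg.IsStemExtension σ) : Nat.card σ.ker ≤ 2 :=
  S0892.result 5 (by norm_num) (by norm_num) (by norm_num) σ.ker hσ.2.1 hσ.2.2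
    ((QuotientGroup.quotientKerEquivOfSurjective σ hσ.1).trans e)

theorem commutator_eq_top_of_simple {S : Type*} [Group S] [IsSimpleGroup S] (h : ¬ IsMulCommutative S) :
    commutator S = ⊤ := by
  rcases (commutator S).normal_of_characteristic.eq_bot_or_eq_top with h1 | h1
  · exfalso
    apply h
    refine ⟨⟨fun a b => ?_⟩⟩
    have h2 : ⁅a, b⁆ ∈ commutator S := Subgroup.commutator_mem_commutator (mem_top a) (mem_top b)
    rw [h1, mem_bot] at h2
    exact commutatorElement_eq_one_iff_mul_comm.1 h2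
  · exact h1

/-! ### The alternating group of degree 5 -/

theorem alt5_cent : ∃ x : alternatingGroup (Fin 5), x ≠ 1 ∧ x ^ 3 = 1 ∧
    Fintype.card {k : alternatingGroup (Fin 5) // k * x = x * k} = 3 := by
  refine ⟨⟨(Equiv.swap 0 1) * (Equiv.swap 1 2), Equiv.Perm.mem_alternatingGroup.2 (by decide)⟩, by decide,
    by decide, by decide +kernel⟩

theorem card_cent_eq {G : Type*} [Group G] [Finite G] (x : G) :
    Nat.card ↥(centralizer ({x} : Set G)) = Nat.card {k : G // k * x = x * k} :=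
  Nat.card_congr (Equiv.subtypeEquivRight fun _ => mem_centralizer_singleton_iff)

theorem factorization_le {n p k : ℕ} (hn : n ≠ 0) (hp : p.Prime) (h : ¬ p ^ (k + 1) ∣ n) :
    p ^ n.factorization p ≤ p ^ k := by
  refine Nat.pow_le_pow_right hp.pos ?_
  by_contra h1
  exact h ((hp.pow_dvd_iff_le_factorization hn).2 (by omega))

theorem a5 : BigClass 2 (alternatingGroup (Fin 5)) := by
  obtain ⟨x, h1, h2, h3⟩ := alt5_cent
  have hc : Nat.card (alternatingGroup (Fin 5)) = 60 := by
    rw [Nat.card_eq_fintype_card]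
    decide +kernel
  refine BigClass.mk' (r := 3) (k := 1) (m := 2 ^ 2) (c := 3) (N := 60) (x := x) Nat.prime_three
    (by norm_num) h1 ?_ ?_ ?_ hc.ge (by norm_num)
  · have : Fact (Nat.Prime 3) := ⟨Nat.prime_three⟩
    rw [pow_one]
    exact orderOf_eq_prime h2 h1
  · rw [hc]
    exact factorization_le (by norm_num) Nat.prime_two (by norm_num)
  · rw [card_cent_eq, Nat.card_eq_fintype_card, h3]

/-! ### `PSL₂(q)`, `q ≡ 3, 5 mod 8` -/

section

variable {F : Type*} [Field F]

theorem up_mul (b c : F) : up b * up c = up (b + c) := by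
  obtain ⟨a1, a2, a3, a4⟩ := mul_entries (up b) (up c)
  rw [ext_iff', a1, a2, a3, a4]
  simp only [up00, up01, up10, up11]
  refine ⟨?_, ?_, ?_, ?_⟩ <;> ring

theorem up_pow (n : ℕ) : (up (1 : F)) ^ n = up (n : F) := by
  induction n with
  | zero =>
    rw [pow_zero, Nat.cast_zero]
    refine ext_iff'.2 ⟨?_, ?_, ?_, ?_⟩
    · rw [up00]; rfl
    · rw [up01]; rfl
    · rw [up10]; rfl
    · rw [up11]; rfl
  | succ n ih => rw [pow_succ, ih, up_mul, Nat.cast_succ]

theorem mk_up_ne_one : mk (up (1 : F)) ≠ 1 := by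
  intro h
  have h1 : (up (1 : F)) ∈ center (SpecialLinearGroup (Fin 2) F) := (QuotientGroup.eq_one_iff _).1 h
  have h2 : mk (up (1 : F)) = mk (up 0) := by
    rw [show mk (up (0 : F)) = 1 from ?_]
    · exact h
    · have h3 := up_pow (F := F) 0
      rw [pow_zero, Nat.cast_zero] at h3
      rw [← h3]
      rfl
  rw [ClassicalGeometry.PSL2Basic.mem_center_SL2_iff] at h1
  rcases h1 with h1 | h1
  · have h3 := congrArg (fun A : SpecialLinearGroup (Fin 2) F => A.1 0 1) h1
    simp [up] at h3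
  · have h3 := congrArg (fun A : SpecialLinearGroup (Fin 2) F => A.1 0 1) h1
    simp [up] at h3

theorem orderOf_up {p : ℕ} [hp : Fact p.Prime] [CharP F p] : orderOf (mk (up (1 : F))) = p := by
  refine orderOf_eq_prime ?_ mk_up_ne_one
  show mk ((up (1 : F)) ^ p) = 1
  rw [up_pow, CharP.cast_eq_zero]
  have h3 := up_pow (F := F) 0
  rw [pow_zero, Nat.cast_zero] at h3
  rw [← h3]
  rfl

end

theorem psl_odd {F : Type*} [Field F] [Fintype F]
    (hF : Fintype.card F % 8 = 3 ∨ Fintype.card F % 8 = 5) (h6 : 6 ≤ Fintype.card F) :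
    BigClass 2 (ProjectiveSpecialLinearGroup (Fin 2) F) := by
  have hodd : Odd (Fintype.card F) := by rw [Nat.odd_iff]; omega
  obtain ⟨p, hp⟩ := CharP.exists F
  have : Fact p.Prime := ⟨CharP.char_is_prime F p⟩
  have hcard := ClassicalGeometry.PSL2Basic.card_PSL2_odd F hodd
  set q := Fintype.card F with hq
  have hpq : p ∣ q := by
    obtain ⟨n, h1, h2⟩ := FiniteField.card F p
    rw [hq, h2]
    exact dvd_pow_self p n.ne_zero
  have hp2 : p ≠ 2 := by
    rintro rfl
    obtain ⟨k, hk⟩ := hodd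
    omega
  have S := Classical.choice (inferInstance : Nonempty (Sylow 2 (ProjectiveSpecialLinearGroup (Fin 2) F)))
  have hS := Walter.TypeSylow.card_sylow_odd hF (MulEquiv.refl _) S
  refine ⟨mk (up 1), p, 1, Fact.out, hp2, mk_up_ne_one, by rw [pow_one]; exact orderOf_up, ?_⟩
  rw [Sylow.card_eq_multiplicity] at hS
  rw [hS]
  have h1 := card_up (F := F)
  rw [← hq] at h1
  have h2 : 6 ^ 2 ≤ q ^ 2 := Nat.pow_le_pow_left h6 2
  have h3 : q * 33 ≤ q * (q ^ 2 - 1) := Nat.mul_le_mul_left q (by omega)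
  have h4 : 4 ^ 2 * Nat.card ↥(centralizer ({mk (up (1 : F))} : Set (ProjectiveSpecialLinearGroup (Fin 2) F))) ≤
    4 ^ 2 * q := Nat.mul_le_mul_left _ h1
  omega

/-! ### The row -/

/-- **Row `two`.** -/
theorem two (S C : Type u) [Group S] [Finite S] [IsSimpleGroup S] [Group C] [Finite C] (σ : C →* S)
    (hna : ¬ IsMulCommutative S) (hσ : Cfsg.IsStemExtension σ) (h2 : 2 ∣ Nat.card σ.ker)
    (hab : AbSylow 2 S) : (∃ k, Nat.card σ.ker = 2 ^ k) ∧ BigClass 2 S := by
  have hperf := commutator_eq_top_of_simple hna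
  have key : ∀ {T : Type u} [Group T] {n : ℕ}, Nonempty (S ≃* T) → Cfsg.HasCyclicSchurMultiplier T n →
      n = 1 → False := by
    intro T _ n ⟨e⟩ hT hn
    have h3 := ker_dvd e hperf hT σ hσ
    rw [hn, Nat.dvd_one] at h3
    rw [h3] at h2
    exact absurd h2 (by norm_num)
  have halt : S ≃* alternatingGroup (Fin 5) → (∃ k, Nat.card σ.ker = 2 ^ k) ∧ BigClass 2 S := by
    intro e
    have h3 := card_ker_alt5 e σ hσ
    have h4 : 0 < Nat.card σ.ker := Nat.card_pos
    have h5 := Nat.le_of_dvd h4 h2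
    exact ⟨⟨1, by omega⟩, a5.congr e.symm⟩
  have S0 : Sylow 2 S := Classical.choice inferInstance
  have hW := Cfsg.Agent.Walter.Main.wType_of_step Cfsg.Agent.Walter.StepAll.step S inferInstance hna S0 (hab S0)
  rcases Cfsg.Agent.ClassificationK.WalterIso.iso_of_wType
    (fun G _ _ _ hab F _ _ hq t ht hC => Cfsg.Agent.S0343.result hab hq t ht hC)
    (fun G _ _ _ P h1 n hn U hUB hUn hUnil hsplit hdisj hind hU hHc hH hfpf K _ _ hK hinv hsyl =>
      Cfsg.Agent.S1149.result P h1 hn U hUB hUn hUnil hsplit hdisj hind hU hHc hH hfpf K hK hinv hsyl)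
    hna hW with ⟨F, i1, i2, k, hk, hF, ⟨e⟩⟩ | ⟨F, i1, i2, hF, hF5, ⟨e⟩⟩ | h | h
  · -- `PSL₂(2^k)`
    rcases Nat.lt_or_ge k 3 with h3 | h3
    · have h4 : Fintype.card F = 4 := by
        rw [hF, show k = 2 by omega]
        norm_num
      obtain ⟨e'⟩ := S0252.result h4
      exact halt (e.trans e')
    · exfalso
      have h8 : 2 ^ 3 ≤ 2 ^ k := Nat.pow_le_pow_right (by norm_num) h3
      have hT := S2086.result (F := F) rfl 2 le_rfl (fun _ => by rw [hF]; omega) (by
        rw [hF]
        simp only [Set.mem_insert_iff, Set.mem_singleton_iff, Prod.mk.injEq]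
        have h9 : ¬ (2 ^ k = 9) := by
          intro h
          have h10 : 2 ∣ 2 ^ k := dvd_pow_self 2 (by omega)
          omega
        omega)
      have h5 := ker_dvd e hperf hT σ hσ
      have h6 : Nat.gcd 2 (Fintype.card F - 1) = 1 := by
        rw [hF]
        have h10 : 2 ∣ 2 ^ k := dvd_pow_self 2 (by omega)
        have h11 : ¬ 2 ∣ 2 ^ k - 1 := by omega
        exact (Nat.Prime.coprime_iff_not_dvd Nat.prime_two).2 h11
      rw [h6, Nat.dvd_one] at h5
      rw [h5] at h2
      exact absurd h2 (by norm_num)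
  · -- `PSL₂(q)`, `q ≡ 3, 5 mod 8`
    rcases Nat.lt_or_ge (Fintype.card F) 6 with h3 | h3
    · have h4 : Fintype.card F = 5 := by omega
      obtain ⟨e'⟩ := S0253.result h4
      exact halt (e.trans e')
    · have hT := S2086.result (F := F) rfl 2 le_rfl (fun _ => by omega) (by
        simp only [Set.mem_insert_iff, Set.mem_singleton_iff, Prod.mk.injEq]
        omega)
      have h5 := ker_dvd e hperf hT σ hσ
      have h6 : Nat.card σ.ker ∣ 2 := h5.trans (Nat.gcd_dvd_left _ _)
      have h7 : Nat.card σ.ker = 2 := Nat.dvd_antisymm h6 h2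
      exact ⟨⟨1, by rw [h7, pow_one]⟩, (psl_odd hF h3).congr e.symm⟩
  · exfalso
    obtain ⟨K, _, _, m, hm, hK, ⟨e⟩⟩ := h
    have h5 := ker_dvd e hperf (S2113.result hm hK) σ hσ
    rw [Nat.dvd_one] at h5
    rw [h5] at h2
    exact absurd h2 (by norm_num)
  · exfalso
    obtain ⟨e⟩ := h
    have h5 := ker_dvd e hperf S2039.result σ hσ
    rw [Nat.dvd_one] at h5
    rw [h5] at h2
    exact absurd h2 (by norm_num)

end Cfsg.Agent.H647.Rel
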