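import Cfsg.Agent.H726.Rel.Defs
import Cfsg.Agent.H647.Rel.Two
import Cfsg.Agent.H30.RocSpor
import Cfsg.Agent.H848.McLLocal

/-!
# `BigClass 3` for the alternating groups of degree 6, 7 and seven sporadic groups (helper647, for S4985, S4992)
-/

set_option autoImplicit false
set_option maxRecDepth 100000

namespace Cfsg.Agent.H647.Rel

open Cfsg Subgroup Cfsg.Agent.H726.Rel

universe u

theorem big3 {S : Type*} [Group S] {x : S} {r c n : ℕ} (v : ℕ) (hr : r.Prime) (hr3 : r ≠ 3)
    (hx : orderOf x = r) (hcard : Nat.card S = n) (hv : ¬ 3 ^ (v + 1) ∣ n)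
    (hc : Nat.card ↥(centralizer ({x} : Set S)) ≤ c) (h : (3 ^ v) ^ 2 * c < n) : BigClass 3 S := by
  refine BigClass.mk' (r := r) (k := 1) (m := 3 ^ v) (c := c) (N := n) (x := x) hr hr3 ?_
    (by rw [pow_one, hx]) ?_ hc hcard.ge h
  · rintro rfl
    rw [orderOf_one] at hx
    exact hr.one_lt.ne hx
  · rw [hcard]
    exact factorization_le (by omega) Nat.prime_three hv

theorem alt6_cent : ∃ x : alternatingGroup (Fin 6), x ^ 4 = 1 ∧ x ^ 2 ≠ 1 ∧
    Fintype.card {k : alternatingGroup (Fin 6) // k * x = x * k} = 4 := by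
  refine ⟨⟨(Equiv.swap 0 1) * (Equiv.swap 1 2) * (Equiv.swap 2 3) * (Equiv.swap 4 5),
    Equiv.Perm.mem_alternatingGroup.2 (by decide)⟩, by decide, by decide, by decide +kernel⟩

theorem a6 : BigClass 3 (alternatingGroup (Fin 6)) := by
  obtain ⟨x, h1, h2, h3⟩ := alt6_cent
  have hc : Nat.card (alternatingGroup (Fin 6)) = 360 := by
    rw [nat_card_alternatingGroup]
    simp [Nat.factorial]
  have hx : orderOf x = 2 ^ 2 := orderOf_eq_prime_pow (p := 2) (n := 1) (by simpa using h2) (by simpa using h1)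
  refine BigClass.mk' (r := 2) (k := 2) (m := 3 ^ 2) (c := 4) (N := 360) (x := x) Nat.prime_two
    (by norm_num) ?_ hx ?_ ?_ hc.ge (by norm_num)
  · rintro rfl
    exact h2 (one_pow 2)
  · rw [hc]
    exact factorization_le (by norm_num) Nat.prime_three (by norm_num)
  · rw [card_cent_eq, Nat.card_eq_fintype_card, h3]

theorem a7 : BigClass 3 (alternatingGroup (Fin 7)) := by
  have hc : Nat.card (alternatingGroup (Fin 7)) = 2520 := by
    rw [nat_card_alternatingGroup]
    simp [Nat.factorial]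
  have hx : H30.RocSpor.x7 ∈ alternatingGroup (Fin 7) := by
    rw [Equiv.Perm.mem_alternatingGroup]; decide
  have ho : orderOf H30.RocSpor.x7 = 5 := by
    have : Fact (Nat.Prime 5) := ⟨by norm_num⟩
    exact orderOf_eq_prime (by decide) (by decide)
  have hct : H30.RocSpor.x7.cycleType = {5} := by
    obtain ⟨n, hn⟩ := Equiv.Perm.cycleType_prime_order (σ := H30.RocSpor.x7) (by rw [ho]; norm_num)
    have hs := Equiv.Perm.sum_cycleType H30.RocSpor.x7
    have hc : H30.RocSpor.x7.support.card = 5 := by decide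
    rw [hn, hc, ho] at hs
    simp at hs
    rw [hn, ho, hs]
    rfl
  have h1 := H30.RocSpor.card_alt_dvd (⟨_, hx⟩ : alternatingGroup (Fin 7))
  have h3 : Nat.card (centralizer ({((⟨_, hx⟩ : alternatingGroup (Fin 7)) : Equiv.Perm (Fin 7))} :
      Set (Equiv.Perm (Fin 7)))) = 10 := H30.RocSpor.card_cent_cycle hct (by norm_num)
  rw [h3] at h1
  refine big3 (x := ⟨_, hx⟩) (r := 5) (c := 10) 2 (by norm_num) (by norm_num) ?_ hc (by norm_num)
    (Nat.le_of_dvd (by norm_num) h1) (by norm_num)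
  rw [Subgroup.orderOf_mk]
  exact ho

theorem m22 {S : Type u} [Group S] (h : Spor.IsoM22 S) : BigClass 3 S := by
  obtain ⟨e⟩ := h
  have hc : Nat.card Spor.M22 = 443520 := NotCT.Orders.m22 ⟨MulEquiv.refl _⟩
  have hfin : Finite Spor.M22 := Nat.finite_of_card_ne_zero (by rw [hc]; norm_num)
  have : Fact (Nat.Prime 2) := ⟨Nat.prime_two⟩
  obtain ⟨t, ht⟩ := exists_prime_orderOf_dvd_card' (G := Spor.M22) 2 (by rw [hc]; norm_num)
  exact (big3 2 Nat.prime_two (by norm_num) ht hc (by norm_num)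
    (Cfsg.Agent.H992.Stages.card_cent_m22 ht).le (by norm_num)).congr e.symm

theorem mcl {S : Type u} [Group S] (h : Spor.IsoMcL S) : BigClass 3 S := by
  have hc := NotCT.Orders.mcl h
  obtain ⟨e⟩ := h
  obtain ⟨x, hx, hC⟩ := H848.McLLocal.mcl_eleven
  exact (big3 6 (by norm_num) (by norm_num) hx ((Nat.card_congr e.symm.toEquiv).trans hc) (by norm_num)
    hC.le (by norm_num)).congr e.symm

theorem suz {S : Type u} [Group S] (h : Spor.IsoSuz S) : BigClass 3 S := by
  have hc := NotCT.Orders.suz h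
  obtain ⟨e⟩ := h
  obtain ⟨x, hx, hC⟩ := Cfsg.Agent.H474.Suz13.suz_thirteen
  exact (big3 7 (by norm_num) (by norm_num) hx ((Nat.card_congr e.symm.toEquiv).trans hc) (by norm_num)
    hC.le (by norm_num)).congr e.symm

theorem fi22 {S : Type u} [Group S] (h : Spor.IsoFi22 S) : BigClass 3 S := by
  have hc := NotCT.Orders.fi22 h
  have hfin : Finite S := Nat.finite_of_card_ne_zero (by rw [hc]; norm_num)
  obtain ⟨e⟩ := h
  have : Fact (Nat.Prime 13) := ⟨by norm_num⟩
  obtain ⟨x, hx⟩ := exists_prime_orderOf_dvd_card' (G := S) 13 (by rw [hc]; norm_num)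
  exact big3 9 (by norm_num) (by norm_num) hx hc (by norm_num)
    (Cfsg.Agent.H713.Spor.Fi22.cent_13 e hx).le (by norm_num)

theorem fi24 {S : Type u} [Group S] (h : Spor.IsoFi24' S) : BigClass 3 S := by
  have hc := NotCT.Orders.fi24 h
  obtain ⟨e⟩ := h
  obtain ⟨x, t, hx, hC, -⟩ := Cfsg.Agent.H30.IMFi24.exists_x
  exact (big3 16 (by norm_num) (by norm_num) hx ((Nat.card_congr e.symm.toEquiv).trans hc) (by norm_num)
    hC.le (by norm_num)).congr e.symm

theorem on {S : Type u} [Group S] (h : Spor.IsoON S) : BigClass 3 S := by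
  have hc := NotCT.Orders.on h
  obtain ⟨e⟩ := h
  have hc' := (Nat.card_congr e.symm.toEquiv).trans hc
  have hfin : Finite Spor.ON := Nat.finite_of_card_ne_zero (by rw [hc']; norm_num)
  have : Fact (Nat.Prime 2) := ⟨Nat.prime_two⟩
  obtain ⟨t, ht⟩ := exists_prime_orderOf_dvd_card' (G := Spor.ON) 2 (by rw [hc']; norm_num)
  have h1 : t * t = 1 := by rw [← pow_two, ← ht, pow_orderOf_eq_one]
  have h2 : t ≠ 1 := by
    rintro rfl
    rw [orderOf_one] at ht
    omega
  refine (big3 4 Nat.prime_two (by norm_num) ht hc' (by norm_num) (c := 161280) ?_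
    (by norm_num)).congr e.symm
  rw [← Cfsg.Agent.Blocks.SylowIn.card_centralizer_of_isConj
    (Cfsg.Agent.KFacts.ON.OneClass.one_class h1 h2), Cfsg.Agent.KFacts.ON.Cent.card_cent]

theorem j3 {S : Type u} [Group S] (h : Spor.IsoJ3 S) : BigClass 3 S := by
  have hc := NotCT.Orders.j3 h
  have hfin : Finite S := Nat.finite_of_card_ne_zero (by rw [hc]; norm_num)
  have : Fact (Nat.Prime 17) := ⟨by norm_num⟩
  obtain ⟨x, hx⟩ := exists_prime_orderOf_dvd_card' (G := S) 17 (by rw [hc]; norm_num)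
  exact big3 5 (by norm_num) (by norm_num) hx hc (by norm_num)
    (Cfsg.Agent.H898.J3Cent.seventeen h hx).1.le (by norm_num)

end Cfsg.Agent.H647.Rel
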